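import Groth.Agent.CurvFam16.GenFF.Divisor
import Groth.Agent.CurveCohLib.RankTwo
import Groth.Agent.CurveCohLib.Clifford
import Groth.Agent.Lib.CurveCanonical
import Groth.Agent.FFLib.RR

/-! Degrees of divisors of invertible modules; the two genera agree. -/

noncomputable section

set_option linter.style.haveILetI false
set_option linter.unusedSectionVars false
set_option backward.isDefEq.respectTransparency false
set_option backward.isDefEq.respectTransparency.types false

universe u

open CategoryTheory CategoryTheory.Limits AlgebraicGeometry TopologicalSpace Opposite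

namespace Groth.Agent.CurvFam16.GenFF

attribute [local instance] ffAlg

theorem ell_le_succ {k K : Type*} [Field k] [Field K] [Algebra k K] (hK : FunFld.IsFunctionField k K)
    {D : FunFld.Divisor k K} (h : 0 < FunFld.ell D) : (FunFld.ell D : ℤ) ≤ D.deg + 1 := by
  obtain ⟨z, hz0, -, hz⟩ := FFLib.exists_le_add_div hK.1 h
  have h1 := (FFLib.ell_le_of_le hK.1 hz).2
  rw [FFLib.ell_add_div hK.1 D hz0, FFLib.ell_zero hK, FFLib.Divisor.deg_zero, FFLib.Divisor.deg_add,
    FFLib.deg_div hK.1] at h1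
  push_cast at h1
  linarith

theorem euler_quot_pos (k : Type u) [Field k] {X : Scheme.{u}} [X.Over (Spec (CommRingCat.of k))]
    [IsIntegral X] [IsProper (X ↘ Spec (CommRingCat.of k))] (p : X) (hp : IsClosed ({p} : Set X)) :
    0 < Curv2.euler k X (ClSub.quotMod (CurvePoint.ptIdeal p hp)) := by
  classical
  haveI := CurveCohLib.isNoetherian_of_proper (k := k) (X := X)
  let Q := ClSub.quotMod (CurvePoint.ptIdeal p hp)
  have hsup : CohB1.support Q ⊆ ({p} : Finset X) := by
    simpa using CurvePoint.support_quot_subset p hp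
  obtain ⟨h, hfin⟩ := CurveCohLib.euler_eq_sum_stalks (k := k) (ParShLib.isCoh_quotMod (CurvePoint.ptIdeal p hp))
    (CurvePoint.closed_support p hp) {p} hsup
  rw [h, Finset.sum_singleton]
  letI := CurveCohLib.stalkModuleK k Q p
  haveI := hfin p (Finset.mem_singleton_self p)
  haveI : Nontrivial (Q.presheaf.stalk p) := not_subsingleton_iff_nontrivial.1 (CurvePoint.not_subsingleton_stalk p hp)
  exact_mod_cast Module.finrank_pos

theorem deg_ptMod_neg (k : Type u) [Field k] {X : Scheme.{u}} [X.Over (Spec (CommRingCat.of k))]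
    [IsIntegral X] [IsProper (X ↘ Spec (CommRingCat.of k))] (p : X) (hp : IsClosed ({p} : Set X)) :
    Curv2.deg k X (CurvePoint.ptMod p hp) 1 < 0 := by
  haveI := CurveCohLib.isNoetherian_of_proper (k := k) (X := X)
  have hQ := ParShLib.isCoh_quotMod (CurvePoint.ptIdeal p hp)
  have h := CurveBundle.euler_add' k _ _ _ (CurvePoint.shortExact_pt p hp)
    (QCoh.isCoh_kernel QCoh.isCoh_structureModule' hQ _) QCoh.isCoh_structureModule' hQ
  have hpos := euler_quot_pos k p hp
  unfold Curv2.deg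
  push_cast
  linarith

variable (k : Type u) [Field k] {X : Scheme.{u}} [X.Over (Spec (CommRingCat.of k))]
  [IsIntegral X] [IsProper (X ↘ Spec (CommRingCat.of k))] [Smooth (X ↘ Spec (CommRingCat.of k))]
  (hdim : topologicalKrullDim X = 1) (h0 : Module.finrank k (Coh.HH X (Coh.structureModule X) 0) = 1)

include hdim h0 in
/-- No first cohomology in degree above `2g - 2`. -/
theorem subsingleton_h1 {L : X.Modules} (hL : PicF.IsInvertible L)
    (hd : 2 * (Curv2.genus k X : ℤ) - 2 < Curv2.deg k X L 1) : Subsingleton (Coh.HH X L 1) := by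
  haveI := CurveCohLib.isNoetherian_of_proper (k := k) (X := X)
  have hO := CurveCohLib.Nonspecial.euler_structure k hdim h0
  refine CurveCohLib.Nonspecial.h1_of_euler k hdim (CurveDeg.isCoh_of_isInvertible hL)
    (fun φ hφ => CurveCohLib.Nonspecial.section_of_sub k (CurveDeg.isCoh_of_isInvertible hL) hL (𝟙 L) φ hφ) ?_
  unfold Curv2.deg at hd
  rw [hO] at hd
  push_cast at hd
  omega

include hdim h0 in
/-- Riemann-Roch in Euler characteristic form. -/
theorem deg_eq_h {L : X.Modules} (hL : PicF.IsInvertible L) : Curv2.deg k X L 1 =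
    (Module.finrank k (Coh.HH X L 0) : ℤ) - Module.finrank k (Coh.HH X L 1) + Curv2.genus k X - 1 := by
  haveI := CurveCohLib.isNoetherian_of_proper (k := k) (X := X)
  have hO := CurveCohLib.Nonspecial.euler_structure k hdim h0
  have hχ := CurveRR.euler_eq_h0_sub_h1 k hdim.le (CurveDeg.isCoh_of_isInvertible hL).1
  rw [Curv2.deg, hO, hχ]
  push_cast
  ring

include hdim h0 in
theorem finrank_h0_of_large {L : X.Modules} (hL : PicF.IsInvertible L)
    (hd : 2 * (Curv2.genus k X : ℤ) - 2 < Curv2.deg k X L 1) :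
    (Module.finrank k (Coh.HH X L 0) : ℤ) = Curv2.deg k X L 1 + 1 - Curv2.genus k X := by
  haveI := subsingleton_h1 k hdim h0 hL hd
  haveI := CurveCohLib.isNoetherian_of_proper (k := k) (X := X)
  rw [deg_eq_h k hdim h0 hL, Module.finrank_zero_of_subsingleton (R := k) (M := Coh.HH X L 1)]
  push_cast
  ring

include hdim in
/-- Twists by the powers of a module. -/
theorem exists_twist {U₀ : X.Opens} (h₀ : genericPoint X ∈ U₀) {M J : X.Modules}
    (hM : PicF.IsInvertible M) (hJ : PicF.IsInvertible J) {a : Γ(M, U₀)} (ha : InvX.IsFrame a)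
    {b : Γ(J, U₀)} (hb : InvX.IsFrame b) (n : ℕ) :
    ∃ (L : X.Modules) (hL : PicF.IsInvertible L) (c : Γ(L, U₀)) (hc : InvX.IsFrame c),
      Curv2.deg k X L 1 = Curv2.deg k X M 1 + n * Curv2.deg k X J 1 ∧
      (divisor k hdim hL hc h₀).deg = (divisor k hdim hM ha h₀).deg + n * (divisor k hdim hJ hb h₀).deg := by
  induction n with
  | zero => exact ⟨M, hM, a, ha, by simp, by simp⟩
  | succ n ih =>
    obtain ⟨L, hL, c, hc, h1, h2⟩ := ih
    refine ⟨CohB1.tensorMod L J, InvX.isInvertible_tensorMod hL hJ, InvX.tmul c b,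
      InvX.isFrame_tmul hc hb, ?_, ?_⟩
    · rw [show Curv2.deg k X (CohB1.tensorMod L J) 1 = _ from CurveRR.deg_tensor k hdim hL hJ, h1]
      push_cast; ring
    · rw [divisor_tensor k hdim hL hc h₀ hJ hb, FFLib.Divisor.deg_add, h2]
      push_cast; ring

theorem exists_common_frames {M J : X.Modules} (hM : PicF.IsInvertible M) (hJ : PicF.IsInvertible J) :
    ∃ (U₀ : X.Opens) (_ : genericPoint X ∈ U₀) (a : Γ(M, U₀)) (b : Γ(J, U₀)),
      InvX.IsFrame a ∧ InvX.IsFrame b :=
  InvX.exists_frame₂ hM hJ (genericPoint X)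

include hdim h0 in
/-- Key computation with a module of positive degree. -/
theorem pos_deg_data {J : X.Modules} (hJ : PicF.IsInvertible J) (hdJ : 0 < Curv2.deg k X J 1)
    {U₀ : X.Opens} (hη : genericPoint X ∈ U₀) {b : Γ(J, U₀)} (hb : InvX.IsFrame b) :
    (divisor k hdim hJ hb hη).deg = Curv2.deg k X J 1 ∧ FunFld.genus k X.functionField = Curv2.genus k X := by
  have hK := isFunctionField k X hdim h0
  obtain ⟨δ, hδ⟩ : ∃ δ, (divisor k hdim hJ hb hη).deg = δ := ⟨_, rfl⟩
  obtain ⟨d, hd⟩ : ∃ d, Curv2.deg k X J 1 = d := ⟨_, rfl⟩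
  rw [hd] at hdJ
  have hpow : ∀ n : ℕ, 2 * (Curv2.genus k X : ℤ) ≤ n →
      ∃ D : FunFld.Divisor k X.functionField, D.deg = (n + 1) * δ ∧
        (FunFld.ell D : ℤ) = (n + 1) * d + 1 - Curv2.genus k X := by
    intro n hn
    obtain ⟨L, hL, c, hc, h1, h2⟩ := exists_twist k hdim hη hJ hJ hb hb n
    refine ⟨divisor k hdim hL hc hη, by rw [h2, hδ]; ring, ?_⟩
    rw [← finrank_h0_eq_ell k hdim hL hc hη, finrank_h0_of_large k hdim h0 hL (by rw [h1, hd]; nlinarith), h1, hd]
    ring
  have hpos : 1 ≤ δ := by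
    by_contra hneg
    obtain ⟨D, hD, hell⟩ := hpow (2 * Curv2.genus k X) (by omega)
    have hle := ell_le_succ hK (D := D) (by push_cast at hell; nlinarith)
    rw [hD] at hle
    push_cast at hell hle
    nlinarith
  let G := FunFld.genus k X.functionField
  have hbig : ∀ n : ℕ, 2 * (Curv2.genus k X : ℤ) ≤ n → 2 * (G : ℤ) ≤ n →
      ((n : ℤ) + 1) * δ + 1 - G = (n + 1) * d + 1 - Curv2.genus k X := by
    intro n hn hn'
    obtain ⟨D, hD, hell⟩ := hpow n hn
    have h3 := FFLib.ell_of_deg_gt hK (D := D) (by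
      rw [hD]
      nlinarith [mul_nonneg (show (0 : ℤ) ≤ n + 1 by omega) (show (0 : ℤ) ≤ δ - 1 by omega)])
    rw [hell, hD] at h3
    exact h3.symm
  have e1 := hbig (2 * Curv2.genus k X + 2 * G) (by push_cast; omega) (by push_cast; omega)
  have e2 := hbig (2 * Curv2.genus k X + 2 * G + 1) (by push_cast; omega) (by push_cast; omega)
  push_cast at e1 e2
  have hd1 : δ = d := by linarith
  refine ⟨hδ.trans (hd1.trans hd.symm), ?_⟩
  subst hd1
  show G = _
  omega

include hdim h0 in
/-- A module of positive degree exists. -/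
theorem exists_pos_deg : ∃ J : X.Modules, PicF.IsInvertible J ∧ 0 < Curv2.deg k X J 1 := by
  haveI := CurveCohLib.isNoetherian_of_proper (k := k) (X := X)
  obtain ⟨S, hS, hcl⟩ := CurveSection.exists_closed_finset k (X := X) hdim 1
  obtain ⟨p, hp⟩ := Finset.card_pos.1 (show 0 < S.card by omega)
  have hI := CurvePoint.isInvertible_ptMod p (hcl p hp) k hdim
  obtain ⟨D, hD, ⟨e⟩⟩ := H23.PicInv.exists_inverse hI
  refine ⟨D, hD, ?_⟩
  have h := CurveRR.deg_tensor k hdim hI hD
  rw [CurveRR.deg_congr k (show (DCoh.tensorBi.obj (CurvePoint.ptMod p (hcl p hp))).obj D ≅ Coh.structureModule X from e),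
    CurveDeg.deg_structureModule] at h
  have hneg := deg_ptMod_neg k p (hcl p hp)
  omega

include hdim h0 in
/-- The genus of the curve is the genus of its function field. -/
theorem genus_eq : FunFld.genus k X.functionField = Curv2.genus k X := by
  obtain ⟨J, hJ, hdJ⟩ := exists_pos_deg k hdim h0
  obtain ⟨U₀, hη, b, hb⟩ := InvX.exists_frame hJ (genericPoint X)
  exact (pos_deg_data k hdim h0 hJ hdJ hη hb).2

variable {M : X.Modules} (hM : PicF.IsInvertible M) {U₀ : X.Opens} {e₀ : Γ(M, U₀)}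
  (he₀ : InvX.IsFrame e₀) (h₀ : genericPoint X ∈ U₀)

theorem divisor_res {U₁ : X.Opens} (h : U₁ ≤ U₀) (h₁ : genericPoint X ∈ U₁) :
    divisor k hdim hM (he₀.res h) h₁ = divisor k hdim hM he₀ h₀ := by
  ext P
  obtain ⟨z, rfl⟩ := (pl k X hdim).surjective P
  refine WithZero.exp_injective ?_
  have hU := CurveCohLib.Polar.eta_mem (mem_chartU hM z)
  rw [exp_divisor k hdim hM (he₀.res h) h₁ (isFrame_chartE hM z) hU (mem_chartU hM z),
    exp_divisor k hdim hM he₀ h₀ (isFrame_chartE hM z) hU (mem_chartU hM z)]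
  congr 1
  refine ratio_eq (he₀.res h) ?_
  rw [gM_res h h₁, ratio_spec]

include h0 in
/-- The degree of the divisor is the degree of the module. -/
theorem deg_divisor : (divisor k hdim hM he₀ h₀).deg = Curv2.deg k X M 1 := by
  have hK := isFunctionField k X hdim h0
  obtain ⟨J, hJ, hdJ⟩ := exists_pos_deg k hdim h0
  obtain ⟨U₁, h₁, a, b, ha, hb⟩ := exists_common_frames hM hJ
  have hU : genericPoint X ∈ U₀ ⊓ U₁ := ⟨h₀, h₁⟩
  have hb' := hb.res (inf_le_right : U₀ ⊓ U₁ ≤ U₁)
  have he' := he₀.res (inf_le_left : U₀ ⊓ U₁ ≤ U₀)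
  rw [← divisor_res k hdim hM he₀ h₀ inf_le_left hU]
  obtain ⟨hδ, hgen⟩ := pos_deg_data k hdim h0 hJ hdJ hU hb'
  obtain ⟨n, hn⟩ : ∃ n : ℕ, |Curv2.deg k X M 1| + |(divisor k hdim hM he' hU).deg| +
      2 * (Curv2.genus k X : ℤ) ≤ n := ⟨_, Int.self_le_toNat _⟩
  obtain ⟨L, hL, c, hc, h1, h2⟩ := exists_twist k hdim hU hM hJ he' hb' n
  have hnd : (n : ℤ) ≤ n * Curv2.deg k X J 1 := le_mul_of_one_le_right (by positivity) (by omega)
  have e1 := finrank_h0_eq_ell k hdim hL hc hU
  have e2 := finrank_h0_of_large k hdim h0 hL (by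
    rw [h1]; linarith [neg_abs_le (Curv2.deg k X M 1), abs_nonneg (divisor k hdim hM he' hU).deg])
  have e3 := FFLib.ell_of_deg_gt hK (D := divisor k hdim hL hc hU) (by
    rw [hgen, h2, hδ]
    linarith [abs_nonneg (Curv2.deg k X M 1), neg_abs_le (divisor k hdim hM he' hU).deg])
  rw [← e1, e2, hgen, h1, h2, hδ] at e3
  linarith

end Groth.Agent.CurvFam16.GenFF
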