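import Groth.Agent.CurvFam16.GenFF.Degree

/-! Effective divisors of the function field of a smooth proper curve are realized by invertible modules. -/

noncomputable section

set_option linter.style.haveILetI false
set_option linter.unusedSectionVars false
set_option backward.isDefEq.respectTransparency false
set_option backward.isDefEq.respectTransparency.types false

universe u

open CategoryTheory CategoryTheory.Limits AlgebraicGeometry TopologicalSpace Opposite
open Groth.Agent.CurveCohLib.Polar
open Groth.Agent.AModX (res resR)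

namespace Groth.Agent.CurvFam16.GenFF

attribute [local instance] ffAlg

variable (k : Type u) [Field k] {X : Scheme.{u}} [X.Over (Spec (CommRingCat.of k))]
  [IsIntegral X] [IsProper (X ↘ Spec (CommRingCat.of k))] [Smooth (X ↘ Spec (CommRingCat.of k))]
  (hdim : topologicalKrullDim X = 1) (hk : Module.finrank k (Coh.HH X (Coh.structureModule X) 0) = 1)

theorem not_closed_generic {X : Scheme.{u}} [IsIntegral X] (hdim : topologicalKrullDim X = 1) :
    ¬ IsClosed ({genericPoint X} : Set X) := fun h' => by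
  have h : ∀ y : X, y = genericPoint X := fun y =>
    ((genericPoint_spec X).specializes (Set.mem_univ y)).mem_closed h' (Set.mem_singleton _)
  haveI : Subsingleton (IrreducibleCloseds X) := ⟨fun a b => IrreducibleCloseds.ext <| by
    obtain ⟨p, hp⟩ := a.isIrreducible.nonempty
    obtain ⟨q, hq⟩ := b.isIrreducible.nonempty
    ext y
    exact ⟨fun _ => by rw [h y, ← h q]; exact hq, fun _ => by rw [h y, ← h p]; exact hp⟩⟩
  have : topologicalKrullDim X ≤ 0 := Order.krullDim_nonpos_of_subsingleton
  rw [hdim] at this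
  exact absurd this (by norm_num)

/-- The complement of finitely many closed points. -/
def avoid (S : Set (Pt X)) (hS : S.Finite) : X.Opens :=
  ⟨(⋃ z ∈ S, ({z.1} : Set X))ᶜ, (hS.isClosed_biUnion fun z _ => z.2).isOpen_compl⟩

theorem mem_avoid {S : Set (Pt X)} {hS : S.Finite} {x : X} : x ∈ avoid S hS ↔ ∀ z ∈ S, x ≠ z.1 := by
  show x ∈ (⋃ z ∈ S, ({z.1} : Set X))ᶜ ↔ _
  simp

include hdim hk in
/-- An effective divisor has local equations. -/
theorem exists_eqns_of_effective (D : FunFld.Divisor k X.functionField) (hD : 0 ≤ D) :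
    ∃ E : Eqns X, (E.A (genericPoint X) = 1) ∧
      ∀ z : Pt X, (pl k X hdim z).1 (E.A z.1) = WithZero.exp (-(D (pl k X hdim z))) := by
  classical
  have hF := (isFunctionField k X hdim hk).1
  choose τ hτ0 hτ using fun P : FunFld.Place k X.functionField => FFLib.exists_unif P
  let A : X → X.functionField := fun x =>
    if h : IsClosed ({x} : Set X) then τ (pl k X hdim ⟨x, h⟩) ^ (D (pl k X hdim ⟨x, h⟩)).toNat else 1
  have hA : ∀ z : Pt X, (pl k X hdim z).1 (A z.1) = WithZero.exp (-(D (pl k X hdim z))) := fun z => by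
    show (pl k X hdim z).1 (if h : _ then _ else _) = _
    have ez : (⟨z.1, z.2⟩ : Pt X) = z := rfl
    rw [dif_pos z.2, map_pow, hτ, ← WithZero.exp_nsmul, ez]
    congr 1
    have h0 := hD (pl k X hdim z)
    simp only [Finsupp.coe_zero, Pi.zero_apply] at h0
    rw [nsmul_eq_mul]
    omega
  have hAη : A (genericPoint X) = 1 := dif_neg (not_closed_generic hdim)
  have hne : ∀ x, A x ≠ 0 := fun x => by
    show (if h : _ then _ else _) ≠ (0 : X.functionField)
    split
    · exact pow_ne_zero _ (hτ0 _)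
    · exact one_ne_zero
  have hgen : ∀ c : X.functionField, InR (genericPoint X) c := fun c => ⟨c, algebraMap_generic X c⟩
  refine ⟨⟨A, hne, fun x => ?_, fun x => ?_⟩, hAη, hA⟩
  · rcases eq_or_isClosed k X hdim x with rfl | hx
    · exact hgen _
    · refine (inR_iff k X hdim ⟨x, hx⟩ _).2 ?_
      rw [hA ⟨x, hx⟩, ← WithZero.exp_zero, WithZero.exp_le_exp]
      have h0 := hD (pl k X hdim ⟨x, hx⟩)
      simp only [Finsupp.coe_zero, Pi.zero_apply] at h0
      omega
  · let S : Set (Pt X) := {z : Pt X | z.1 ≠ x ∧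
      ((pl k X hdim z).ord (A x) ≠ 0 ∨ D (pl k X hdim z) ≠ 0)}
    have hS : S.Finite := by
      refine ((((FFLib.finite_support_ord hF (A x)).union D.support.finite_toSet).preimage
        (pl k X hdim).injective.injOn)).subset fun z hz => ?_
      rcases hz.2 with h | h
      · exact Or.inl h
      · exact Or.inr (Finsupp.mem_support_iff.2 h)
    refine ⟨avoid S hS, mem_avoid.2 fun z hz h => hz.1 h.symm, fun z hz => ?_⟩
    rcases eq_or_isClosed k X hdim z with rfl | hzc
    · exact ⟨hgen _, hgen _⟩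
    have hval : (pl k X hdim ⟨z, hzc⟩).1 (A x) = (pl k X hdim ⟨z, hzc⟩).1 (A z) := by
      by_cases hzx : z = x
      · subst hzx; rfl
      have hzS : (⟨z, hzc⟩ : Pt X) ∉ S := fun h => mem_avoid.1 hz _ h rfl
      have h' : (pl k X hdim ⟨z, hzc⟩).ord (A x) = 0 ∧ D (pl k X hdim ⟨z, hzc⟩) = 0 := by
        constructor <;> by_contra h
        · exact hzS ⟨hzx, Or.inl h⟩
        · exact hzS ⟨hzx, Or.inr h⟩
      rw [FFLib.val_eq_exp _ (hne x), h'.1, hA ⟨z, hzc⟩, h'.2]
    have hvz : (pl k X hdim ⟨z, hzc⟩).1 (A z) ≠ 0 := (Valuation.ne_zero_iff _).2 (hne z)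
    constructor <;> refine (inR_iff k X hdim ⟨z, hzc⟩ _).2 (le_of_eq ?_) <;>
      rw [map_div₀, hval] <;> exact div_self hvz

include hdim hk in
/-- An effective divisor is the divisor of an invertible module. -/
theorem exists_module_of_effective (D : FunFld.Divisor k X.functionField) (hD : 0 ≤ D) :
    ∃ (L : X.Modules) (hL : PicF.IsInvertible L) (U₀ : X.Opens) (e₀ : Γ(L, U₀)) (he₀ : InvX.IsFrame e₀)
      (h₀ : genericPoint X ∈ U₀), divisor k hdim hL he₀ h₀ = D := by
  obtain ⟨E, hEη, hE⟩ := exists_eqns_of_effective k hdim hk D hD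
  obtain ⟨U₀, h₀, e₀, he₀, hv₀⟩ := exists_mod_frame E 1 (genericPoint X)
  refine ⟨mod E 1, isInvertible_mod E 1, U₀, e₀, he₀, h₀, ?_⟩
  ext P
  obtain ⟨z, rfl⟩ := (pl k X hdim).surjective P
  refine WithZero.exp_injective ?_
  obtain ⟨U, hz, e, he, hv⟩ := exists_mod_frame E 1 z.1
  have hU : genericPoint X ∈ U := eta_mem hz
  rw [exp_divisor k hdim (isInvertible_mod E 1) he₀ h₀ he hU hz]
  let W := U₀ ⊓ U
  have hW : genericPoint X ∈ W := ⟨h₀, hU⟩
  obtain ⟨r, hr, hrr⟩ := exists_coord_ratio he₀ (inf_le_left : W ≤ U₀) hW (res (mod E 1) inf_le_right e)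
  have h1 : ratio he₀ h₀ hU e = X.presheaf.germ W _ hW r := by
    rw [← hrr]
    exact ratio_eq he₀ (by rw [ratio_spec, gM_res])
  have h2 := congrArg (v E hW) hr
  rw [v_smul, v_res _ hW hU, v_res _ hW h₀, hv hU, hv₀ h₀, pow_one, pow_one, hEη, inv_one, mul_one] at h2
  rw [h1, show (X.presheaf.germ W _ hW r : X.functionField) = (E.A z.1)⁻¹ from h2.symm, map_inv₀, hE z,
    ← WithZero.exp_neg, neg_neg]

include hdim hk in
/-- An effective divisor gives an invertible module with the same degree and dimension of sections. -/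
theorem exists_invertible_of_effective (D : FunFld.Divisor k X.functionField) (hD : 0 ≤ D) :
    ∃ L : X.Modules, PicF.IsInvertible L ∧ Curv2.deg k X L 1 = D.deg ∧
      Module.finrank k (Coh.HH X L 0) = FunFld.ell D := by
  obtain ⟨L, hL, U₀, e₀, he₀, h₀, rfl⟩ := exists_module_of_effective k hdim hk D hD
  exact ⟨L, hL, (deg_divisor k hdim hk hL he₀ h₀).symm, finrank_h0_eq_ell k hdim hL he₀ h₀⟩

end Groth.Agent.CurvFam16.GenFF
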